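import Groth.Agent.H78.Existence.AmpleVanish
import Groth.Agent.Lib.Exchange.RelVanish
import Groth.Agent.Lib.Ample.RelAmple
import Groth.Agent.Lib.ZarCoh.PushH
import Groth.Agent.Lib.RefHull.Tensor
import Groth.Agent.Lib.Devissage.Localization

/-!
# Direct images of large ample twists have no higher cohomology
-/

set_option autoImplicit false
set_option linter.style.haveILetI false
universe u

open CategoryTheory CategoryTheory.Limits AlgebraicGeometry TopologicalSpace

namespace Groth.Agent.H84.CohAmple.Acyc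

open Groth.Agent.Lib

set_option maxHeartbeats 1000000 in
/-- `H^{q+1}(X, f_*(N ⊗ L^n)) = 0` for `n` large. -/
theorem exists_subsingleton_push (A : Type u) [CommRing A] [IsNoetherianRing A] {X Y : Scheme.{u}}
    (pX : X ⟶ Spec (CommRingCat.of A)) (pY : Y ⟶ Spec (CommRingCat.of A))
    [IsProper pX] [IsProper pY] (f : Y ⟶ X) (hf : f ≫ pX = pY) [IsProper f]
    {L : Y.Modules} (hL : CohB1.IsAmple L) {N : Y.Modules} (hN : Coh.IsCoh N) :
    ∃ n₀ : ℕ, ∀ n, n₀ ≤ n → ∀ q : ℕ,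
      Subsingleton (Coh.HH X ((Coh.push f).obj (CohB1.tensorMod N (CohB1.tensorPow L n))) (q + 1)) := by
  classical
  letI : X.Over (Spec (CommRingCat.of A)) := ⟨pX⟩
  letI : Y.Over (Spec (CommRingCat.of A)) := ⟨pY⟩
  haveI : IsProper (X ↘ Spec (CommRingCat.of A)) := ‹IsProper pX›
  haveI : IsProper (Y ↘ Spec (CommRingCat.of A)) := ‹IsProper pY›
  haveI := Groth.Agent.H78.Existence.AmpleVanish.isNoetherian_of_proper A (X := X)
  haveI := Groth.Agent.H78.Existence.AmpleVanish.isNoetherian_of_proper A (X := Y)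
  have hrel : RelAmple.IsRelAmple f L := by
    refine Ample.RelAmple.isRelAmple_of_comp f pX ?_
    rw [hf]
    exact (Ample.RelAmple.isRelAmple_iff_isAmple _).2 hL
  choose V hV hxV using fun x : X =>
    (exists_isAffineOpen_mem_and_subset (X := X) (x := x) (U := ⊤) trivial).imp
      fun V hV => And.intro hV.1 hV.2.1
  obtain ⟨T, hT⟩ := isCompact_univ.elim_finite_subcover (fun x => (V x : Set X))
    (fun x => (V x).2) fun x _ => Set.mem_iUnion.2 ⟨x, hxV x⟩
  have hn : ∀ x : X, ∃ n₀ : ℕ, ∀ n, n₀ ≤ n → ∀ q : ℕ, Subsingleton (Coh.HH _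
      ((CohB1.tensorMod N (CohB1.tensorPow L n)).restrict (f ⁻¹ᵁ V x).ι) (q + 1)) := fun x => by
    haveI : IsNoetherianRing Γ(X, V x) := IsLocallyNoetherian.component_noetherian ⟨V x, hV x⟩
    letI : (f ⁻¹ᵁ V x : Scheme.{u}).Over (Spec (CommRingCat.of Γ(X, V x))) :=
      ⟨Exchange.RelVanish.overA f (hV x)⟩
    haveI : IsProper (f ∣_ V x) :=
      MorphismProperty.of_isPullback (P := @IsProper) (isPullback_morphismRestrict f (V x)).flip
        inferInstance
    haveI : IsProper ((f ⁻¹ᵁ V x : Scheme.{u}) ↘ Spec (CommRingCat.of Γ(X, V x))) :=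
      inferInstanceAs (IsProper (Exchange.RelVanish.overA f (hV x)))
    obtain ⟨n₀, hn₀⟩ := Groth.Agent.H78.Existence.AmpleVanish.exists_subsingleton Γ(X, V x)
      (hrel.2 ⟨V x, hV x⟩) (Devissage.Localization.isCoh_restrict (f ⁻¹ᵁ V x).ι hN)
    refine ⟨n₀, fun n hn q => ?_⟩
    haveI := hn₀ n hn q
    exact (Curves.LES.isoK Γ(X, V x) (TensorMod.Pullback.restrictTensorIso _ _ _ ≪≫
      TensorMod.Basic.tensorIso (Iso.refl _) (Ample.Pow.restrictPow _ L n)) (q + 1)).toEquiv.subsingleton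
  choose n₀ hn₀ using hn
  obtain ⟨m, hm⟩ := Groth.Agent.H78.Existence.AmpleVanish.exists_subsingleton A (X := Y) hL hN
  refine ⟨max m (T.sup n₀), fun n hn q => ?_⟩
  have hLn := Ample.GG.isCoh_of_isInvertible (TensorMod.Invertible.isInvertible_tensorPow hL.1 n)
  have hG : Coh.IsCoh (CohB1.tensorMod N (CohB1.tensorPow L n)) := RefHull.Tensor.isCoh_tensorMod hN hLn
  haveI := hG.1
  have hbasis : Opens.IsBasis {W : X.Opens | ∃ x ∈ T, IsAffineOpen W ∧ W ≤ V x} := by
    refine Opens.isBasis_iff_nbhd.2 fun {U y} hy => ?_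
    obtain ⟨x, hx, hyx⟩ := Set.mem_iUnion₂.1 (hT (Set.mem_univ y))
    obtain ⟨W, hW, hyW, hle⟩ := exists_isAffineOpen_mem_and_subset (U := U ⊓ V x) (x := y) ⟨hy, hyx⟩
    exact ⟨W, ⟨x, hx, hW, fun z hz => (hle hz).2⟩, hyW, fun z hz => (hle hz).1⟩
  haveI := hm n (le_trans (le_max_left _ _) hn) q
  exact (ZarCoh.PushH.pushEquiv f.base hbasis (Coh.toAb _) (fun W ⟨x, hx, hW, hWV⟩ p => by
    exact Exchange.RelVanish.subsingleton_preimage_of_le f _ (hV x) hW hWV (p + 1)
      (hn₀ x _ (le_trans (Finset.le_sup hx) (le_trans (le_max_right _ _) hn)) p)) (q + 1)).toEquiv.subsingleton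

end Groth.Agent.H84.CohAmple.Acyc
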