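import Groth.Agent.H84.CohAmple.Push
import Groth.Agent.Lib.Ample.Pow

/-!
# Direct images of twists, restricted to an open over which the morphism is affine
-/

set_option autoImplicit false
set_option linter.style.haveILetI false
universe u

open CategoryTheory CategoryTheory.Limits AlgebraicGeometry

namespace Groth.Agent.H84.CohAmple.Cmp

open Groth.Agent.Lib
open Groth.Agent.Lib.Modules.StalkModule (stalkMapₗ stalkMapₗ_comp)

variable {X Y : Scheme.{u}} (f : Y ⟶ X) (V : X.Opens)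

/-- `(f^* F)|_{f⁻¹V} ≅ (f ∣_ V)^* (F|_V)`. -/
noncomputable def pullRestrict (F : X.Modules) :
    ((Scheme.Modules.pullback f).obj F).restrict (f ⁻¹ᵁ V).ι ≅
      (Scheme.Modules.pullback (f ∣_ V)).obj (F.restrict V.ι) :=
  (Scheme.Modules.restrictFunctorIsoPullback (f ⁻¹ᵁ V).ι).app _ ≪≫
    (Scheme.Modules.pullbackComp (f ⁻¹ᵁ V).ι f).app F ≪≫
    (Scheme.Modules.pullbackCongr (morphismRestrict_ι f V).symm).app F ≪≫
    ((Scheme.Modules.pullbackComp (f ∣_ V) V.ι).app F).symm ≪≫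
    (Scheme.Modules.pullback (f ∣_ V)).mapIso ((Scheme.Modules.restrictFunctorIsoPullback V.ι).app F).symm

/-- Powers of the twist upstairs, restricted. -/
noncomputable def powRestrict {L : Y.Modules} {FV : (V : Scheme.{u}).Modules}
    (eL : L.restrict (f ⁻¹ᵁ V).ι ≅ (Scheme.Modules.pullback (f ∣_ V)).obj FV) (n : ℕ) :
    (CohB1.tensorPow L n).restrict (f ⁻¹ᵁ V).ι ≅
      (Scheme.Modules.pullback (f ∣_ V)).obj (CohB1.tensorPow FV n) :=
  (Ample.Pow.restrictPow (f ⁻¹ᵁ V).ι L n).trans ((Ample.Pow.powIso eL n).trans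
    (Ample.Pow.pullbackPow (f ∣_ V) FV n).symm)

/-- The twist upstairs, restricted. -/
noncomputable def twistRestrict {N L : Y.Modules} {NV : (f ⁻¹ᵁ V : Scheme.{u}).Modules} {FV : (V : Scheme.{u}).Modules}
    (eN : (Scheme.Modules.restrictFunctor (f ⁻¹ᵁ V).ι).obj N ≅ NV)
    (eL : L.restrict (f ⁻¹ᵁ V).ι ≅ (Scheme.Modules.pullback (f ∣_ V)).obj FV) (n : ℕ) :
    (CohB1.tensorMod N (CohB1.tensorPow L n)).restrict (f ⁻¹ᵁ V).ι ≅
      CohB1.tensorMod ((Scheme.Modules.pullback (f ∣_ V)).obj (CohB1.tensorPow FV n)) NV :=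
  (TensorMod.Pullback.restrictTensorIso (f ⁻¹ᵁ V).ι N (CohB1.tensorPow L n)).trans
    ((TensorMod.Basic.tensorIso eN (powRestrict f V eL n)).trans
      (TensorMod.Basic.comm NV ((Scheme.Modules.pullback (f ∣_ V)).obj (CohB1.tensorPow FV n))))

/-- Conjugating `ψ ⊗ E` by isomorphisms. -/
theorem exists_conj {S : Scheme.{u}} {U : S.Opens} {A B E A' B' : S.Modules} (ψ : A ⟶ B)
    (hψ : ∀ z ∈ U, Function.Surjective (stalkMapₗ ψ z))
    (e₁ : A' ≅ CohB1.tensorMod A E) (e₂ : B' ≅ CohB1.tensorMod B E) :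
    ∃ φ : A' ⟶ B', ∀ z ∈ U, Function.Surjective (stalkMapₗ φ z) := by
  let m : CohB1.tensorMod A E ⟶ CohB1.tensorMod B E := (TensorMod.Basic.tensorBy E).map ψ
  have hm : ∀ z ∈ U, Function.Surjective (stalkMapₗ m z) := Push.surjective_tensor ψ hψ E
  refine ⟨e₁.hom ≫ m ≫ e₂.inv, fun z hz => ?_⟩
  have h2 := (Modules.StalkModule.epi_iff_stalkMapₗ_surjective e₂.inv).mp inferInstance z
  have h1 := (Modules.StalkModule.epi_iff_stalkMapₗ_surjective e₁.hom).mp inferInstance z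
  rw [stalkMapₗ_comp, stalkMapₗ_comp, LinearMap.coe_comp, LinearMap.coe_comp]
  exact (h2.comp (hm z hz)).comp h1

/-- The map onto `(G ⊗ F^n)|_V`. -/
theorem exists_map [IsAffineHom (f ∣_ V)] {U : (V : Scheme.{u}).Opens} {N L : Y.Modules}
    {NV : (f ⁻¹ᵁ V : Scheme.{u}).Modules} (G F : X.Modules)
    (ψ : (Scheme.Modules.pushforward (f ∣_ V)).obj NV ⟶ G.restrict V.ι)
    (hψ : ∀ z ∈ U, Function.Surjective (stalkMapₗ ψ z))
    (eN : (Scheme.Modules.restrictFunctor (f ⁻¹ᵁ V).ι).obj N ≅ NV)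
    (eL : L.restrict (f ⁻¹ᵁ V).ι ≅ (Scheme.Modules.pullback (f ∣_ V)).obj (F.restrict V.ι))
    (n : ℕ) [NV.IsQuasicoherent] [(CohB1.tensorPow (F.restrict V.ι) n).IsQuasicoherent] :
    ∃ φ : (Scheme.Modules.restrictFunctor V.ι).obj
          ((Scheme.Modules.pushforward f).obj (CohB1.tensorMod N (CohB1.tensorPow L n))) ⟶
        (Scheme.Modules.restrictFunctor V.ι).obj (CohB1.tensorMod G (CohB1.tensorPow F n)),
      ∀ z ∈ U, Function.Surjective (stalkMapₗ φ z) := by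
  let E := CohB1.tensorPow (F.restrict V.ι) n
  let e1 := (DerivedOX.RestrictRpush.pushRestrictIso f V).app (CohB1.tensorMod N (CohB1.tensorPow L n)) ≪≫
    (Scheme.Modules.pushforward (f ∣_ V)).mapIso (twistRestrict f V eN eL n) ≪≫
      (ProjAffine51.projIso (f ∣_ V) E NV).symm ≪≫ TensorMod.Basic.comm _ _
  let e2 : (CohB1.tensorMod G (CohB1.tensorPow F n)).restrict V.ι ≅
      CohB1.tensorMod (G.restrict V.ι) E :=
    TensorMod.Pullback.restrictTensorIso _ _ _ ≪≫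
      TensorMod.Basic.tensorIso (Iso.refl _) (Ample.Pow.restrictPow _ F n)
  exact exists_conj ψ hψ e1 e2

end Groth.Agent.H84.CohAmple.Cmp
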