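import Mathlib.AlgebraicGeometry.Noetherian
import Mathlib.Topology.KrullDimension
import Mathlib.RingTheory.KrullDimension.Basic
import Mathlib.Order.KrullDimension
import Mathlib.AlgebraicGeometry.Stalk

/-!
# Dimension of closed subsets of bounded below codimension
-/

set_option autoImplicit false
universe u

open CategoryTheory AlgebraicGeometry TopologicalSpace Topology

namespace Groth.Agent.H84.CohAmple.Dim

variable {X : Scheme.{u}}

/-- The closure of a point as an irreducible closed subset. -/
def pt (x : X) : IrreducibleCloseds X := ⟨closure {x}, isIrreducible_singleton.closure, isClosed_closure⟩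

theorem pt_strict {x y : X} (h : x ⤳ y) (hne : x ≠ y) : pt y < pt x := by
  refine lt_of_le_of_ne (specializes_iff_closure_subset.1 h) fun e => hne ?_
  exact (inseparable_iff_closure_eq.2 (congrArg (fun Z : IrreducibleCloseds X => (Z : Set X)) e).symm).eq

theorem le_coheight {z : X} {c : ℕ} (h : (c : WithBot ℕ∞) ≤ ringKrullDim (X.presheaf.stalk z)) :
    (c : ℕ∞) ≤ Order.coheight (pt z) := by
  obtain ⟨l, hl⟩ := Order.le_krullDim_iff.1 h
  let g := X.fromSpecStalk z
  have hinj : Function.Injective g := g.isEmbedding.injective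
  let G : (PrimeSpectrum (X.presheaf.stalk z))ᵒᵈ → IrreducibleCloseds X :=
    fun q => pt (g (OrderDual.ofDual q))
  have hG : StrictMono G := fun a b hab => by
    have h1 : OrderDual.ofDual b < OrderDual.ofDual a := hab
    refine pt_strict (((PrimeSpectrum.le_iff_specializes _ _).1 h1.le).map g.continuous) ?_
    exact fun e => h1.ne (hinj e)
  let l' := LTSeries.mk l.length (fun i => G (OrderDual.toDual (l i.rev)))
    (fun a b hab => hG (OrderDual.toDual_lt_toDual.2 (l.strictMono (Fin.rev_lt_rev.2 hab))))
  rw [← hl, show l.length = l'.length from rfl]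
  refine Order.length_le_coheight ?_
  have hz : g (IsLocalRing.closedPoint (X.presheaf.stalk z)) = z := Scheme.fromSpecStalk_closedPoint
  show pt z ≤ pt (g (l (Fin.rev 0)))
  refine specializes_iff_closure_subset.1 ?_
  have h3 := (IsLocalRing.specializes_closedPoint (l (Fin.rev 0))).map g.continuous
  rwa [hz] at h3

/-- **Codimension bound.** -/
theorem dim_add_le {d : ℕ} (hd : topologicalKrullDim X ≤ d) {S : Set X} (hS : IsClosed S) {c : ℕ}
    (h : ∀ x ∈ S, (c : WithBot ℕ∞) ≤ ringKrullDim (X.presheaf.stalk x)) {n : ℕ}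
    (hn : (n : WithBot ℕ∞) ≤ topologicalKrullDim S) : n + c ≤ d := by
  obtain ⟨l, hl⟩ := Order.le_krullDim_iff.1 hn
  let F : IrreducibleCloseds S → IrreducibleCloseds X := fun Z =>
    ⟨Subtype.val '' (Z : Set S), Z.isIrreducible.image _ continuous_subtype_val.continuousOn,
      hS.isClosedEmbedding_subtypeVal.isClosedMap _ Z.isClosed⟩
  have hF : StrictMono F := fun a b hab => by
    refine lt_of_le_of_ne (Set.image_mono hab.le) fun e => hab.ne ?_
    exact SetLike.coe_injective (Subtype.val_injective.image_injective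
      (congrArg (fun Z : IrreducibleCloseds X => (Z : Set X)) e))
  let Z := F l.last
  obtain ⟨z, hz⟩ := QuasiSober.sober Z.isIrreducible Z.isClosed
  have hzS : z ∈ S := by
    obtain ⟨w, -, hw⟩ : z ∈ (Z : Set X) := hz.mem
    exact hw ▸ w.2
  have hpt : pt z = Z := SetLike.coe_injective hz.def
  have h1 : (n : ℕ∞) ≤ Order.height Z := by
    have := Order.length_le_height (x := Z) (p := LTSeries.map l F hF) (le_of_eq rfl)
    rwa [LTSeries.map_length, hl] at this
  have h2 : (c : ℕ∞) ≤ Order.coheight Z := hpt ▸ le_coheight (h z hzS)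
  haveI : Nonempty (IrreducibleCloseds X) := ⟨Z⟩
  have h3 : ((Order.height Z + Order.coheight Z : ℕ∞) : WithBot ℕ∞) ≤ (d : WithBot ℕ∞) := by
    refine le_trans ?_ hd
    show _ ≤ Order.krullDim (IrreducibleCloseds X)
    rw [Order.krullDim_eq_iSup_height_add_coheight_of_nonempty]
    exact WithBot.coe_le_coe.2 (le_iSup (fun a : IrreducibleCloseds X => Order.height a + Order.coheight a) Z)
  have h4 : ((n + c : ℕ) : ℕ∞) ≤ (d : ℕ∞) := by
    refine le_trans ?_ (WithBot.coe_le_coe.1 h3)
    push_cast
    exact add_le_add h1 h2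
  exact_mod_cast h4

end Groth.Agent.H84.CohAmple.Dim
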