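import Groth.Agent.S9523
import Groth.Agent.H34.HOne
import Groth.Agent.Lib.CohDelta.IdealMul.Main
import Groth.Agent.Lib.CohDelta.IdealMul.DevExt
import Groth.Agent.Lib.CohDelta.IdealMul.FinPush
import Groth.Agent.Lib.DerivedOX.RestrictRpush
import Groth.Agent.Lib.ProjAffine51.Basic
import Groth.Agent.Lib.Cyc.FP.Stalk
import Groth.Agent.Lib.TensorMod.Pullback
import Groth.Agent.Lib.RefHull.Tensor

/-!
# Modules pushed forward along a finite morphism which is invertible over an open
-/

set_option autoImplicit false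
set_option linter.style.haveILetI false
universe u

open CategoryTheory CategoryTheory.Limits AlgebraicGeometry TopologicalSpace

namespace Groth.Agent.H84.CohAmple.Push

open Groth.Agent.Lib
open Groth.Agent.Lib.Modules.StalkModule (stalkMapₗ stalkMapₗ_comp)

variable {X Y : Scheme.{u}}

/-- The unit of restriction along an isomorphism. -/
theorem isIso_unit_of_isIso {W S : Scheme.{u}} (s : W ⟶ S) [IsIso s] (G : S.Modules) :
    IsIso ((Scheme.Modules.restrictAdjunction s).unit.app G) := by
  refine Scheme.Modules.Hom.isIso_iff_isIso_app.2 fun O => ?_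
  rw [Scheme.Modules.restrictAdjunction_unit_app_app]
  have h : s ''ᵁ (s ⁻¹ᵁ O) = O := by
    rw [Scheme.Hom.image_preimage_eq_opensRange_inf, Scheme.Hom.opensRange_of_isIso, top_inf_eq]
  rw [Subsingleton.elim (homOfLE _) (eqToHom h)]
  haveI : IsIso (eqToHom h) := ⟨eqToHom h.symm, Subsingleton.elim _ _, Subsingleton.elim _ _⟩
  haveI : IsIso (eqToHom h).op := isIso_op _
  exact Functor.map_isIso G.presheaf _

/-- `s_* s^* G ≅ G` for an isomorphism `s`. -/
noncomputable def pushPull {W S : Scheme.{u}} (s : W ⟶ S) [IsIso s] (G : S.Modules) :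
    (Scheme.Modules.pushforward s).obj ((Scheme.Modules.pullback s).obj G) ≅ G :=
  (Scheme.Modules.pushforward s).mapIso ((Scheme.Modules.restrictFunctorIsoPullback s).symm.app G) ≪≫
    (haveI := isIso_unit_of_isIso s G; (asIso ((Scheme.Modules.restrictAdjunction s).unit.app G)).symm)

/-- Over an open where `h` is invertible, `h_* h^* G` is `G`. -/
noncomputable def restrictPushPull (h : Y ⟶ X) (U : X.Opens) [IsIso (h ∣_ U)] (G : X.Modules) :
    ((Scheme.Modules.pushforward h).obj ((Scheme.Modules.pullback h).obj G)).restrict U.ι ≅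
      G.restrict U.ι :=
  (DerivedOX.RestrictRpush.pushRestrictIso h U).app _ ≪≫
    (Scheme.Modules.pushforward (h ∣_ U)).mapIso
      ((Scheme.Modules.restrictFunctorIsoPullback (h ⁻¹ᵁ U).ι).app _ ≪≫
        (Scheme.Modules.pullbackComp (h ⁻¹ᵁ U).ι h).app G ≪≫
        (Scheme.Modules.pullbackCongr (morphismRestrict_ι h U).symm).app G ≪≫
        ((Scheme.Modules.pullbackComp (h ∣_ U) U.ι).app G).symm ≪≫
        (Scheme.Modules.pullback (h ∣_ U)).mapIso
          ((Scheme.Modules.restrictFunctorIsoPullback U.ι).app G).symm) ≪≫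
    pushPull (h ∣_ U) (G.restrict U.ι)

/-- Surjectivity on stalks is checked after restriction. -/
theorem surjective_iff {U : X.Opens} {A B : X.Modules} (p : A ⟶ B) {x : X} (hx : x ∈ U) :
    Function.Surjective (stalkMapₗ ((Scheme.Modules.restrictFunctor U.ι).map p)
        (⟨x, hx⟩ : (U : Scheme.{u}))) ↔
      Function.Surjective (stalkMapₗ p x) := by
  let z : (U : Scheme.{u}) := ⟨x, hx⟩
  let e := Modules.Local.restrictStalkIso U.ι z
  have h1 : Epi ((Modules.Stalk.stalkFunctor (U : Scheme.{u}) z).map
      ((Scheme.Modules.restrictFunctor U.ι).map p)) ↔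
      Epi ((Modules.Stalk.stalkFunctor X (U.ι z)).map p) := by
    constructor
    · intro h
      haveI : Epi ((Scheme.Modules.restrictFunctor U.ι ⋙ Modules.Stalk.stalkFunctor (U : Scheme.{u}) z).map p) := h
      rw [← NatIso.naturality_1 e p]
      infer_instance
    · intro h
      haveI := h
      change Epi ((Scheme.Modules.restrictFunctor U.ι ⋙ Modules.Stalk.stalkFunctor (U : Scheme.{u}) z).map p)
      rw [← NatIso.naturality_2 e p]
      infer_instance
  exact (AddCommGrpCat.epi_iff_surjective _).symm.trans (h1.trans (AddCommGrpCat.epi_iff_surjective _))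

/-- Stalkwise surjectivity on an open gives an epimorphism of restrictions, and conversely. -/
theorem epi_restrict_iff {U : X.Opens} {A B : X.Modules} (p : A ⟶ B) :
    Epi ((Scheme.Modules.restrictFunctor U.ι).map p) ↔
      ∀ x ∈ U, Function.Surjective (stalkMapₗ p x) := by
  rw [Modules.StalkModule.epi_iff_stalkMapₗ_surjective]
  exact ⟨fun h x hx => (surjective_iff p hx).1 (h ⟨x, hx⟩),
    fun h z => (surjective_iff p z.2).2 (h _ z.2)⟩

/-- Surjectivity over an open, via the cokernel. -/
theorem notMem_support_cokernel {A B : X.Modules} (p : A ⟶ B) {x : X}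
    (hp : Function.Surjective (stalkMapₗ p x)) : x ∉ CohB1.support (cokernel p) := by
  refine Modules.Support.not_mem_support_iff.mpr (subsingleton_of_forall_eq 0 fun v => ?_)
  obtain ⟨w, rfl⟩ := (Modules.StalkModule.epi_iff_stalkMapₗ_surjective (cokernel.π p)).mp
    inferInstance x v
  obtain ⟨a, rfl⟩ := hp w
  obtain ⟨O, hxO, s, rfl⟩ := TopCat.Presheaf.exists_germ_eq A.presheaf a
  rw [← LinearMap.comp_apply, ← stalkMapₗ_comp, cokernel.condition,
    Modules.StalkModule.stalkMapₗ_germ]
  exact map_zero _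

theorem surjective_of_support_cokernel {A B : X.Modules} (p : A ⟶ B) {U : X.Opens}
    (h : ∀ x ∈ U, x ∉ CohB1.support (cokernel p)) :
    ∀ x ∈ U, Function.Surjective (stalkMapₗ p x) := by
  refine (epi_restrict_iff p).1 ?_
  let R := Scheme.Modules.restrictFunctor U.ι
  haveI : PreservesColimitsOfSize.{0, 0} R :=
    (Scheme.Modules.restrictAdjunction U.ι).leftAdjoint_preservesColimits
  haveI : PreservesFiniteColimits R := PreservesColimitsOfSize.preservesFiniteColimits R
  have h0 : IsZero (R.obj (cokernel p)) := Modules.Support.support_eq_empty_iff.1 <|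
    Set.eq_empty_iff_forall_notMem.2 fun z hz => by
      change z ∈ CohB1.support ((cokernel p).restrict U.ι) at hz
      rw [Modules.Support.support_restrict] at hz
      exact h (U.ι z) z.2 hz
  exact Abelian.epi_of_cokernel_π_eq_zero _
    ((h0.of_iso (PreservesCokernel.iso R p).symm).eq_of_tgt _ _)

/-- Tensoring preserves surjectivity over an open. -/
theorem surjective_tensor {U : X.Opens} {A B : X.Modules} (p : A ⟶ B)
    (hp : ∀ x ∈ U, Function.Surjective (stalkMapₗ p x)) (E : X.Modules) :
    ∀ x ∈ U, Function.Surjective (stalkMapₗ ((TensorMod.Basic.tensorBy E).map p) x) := by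
  refine surjective_of_support_cokernel _ fun x hx => ?_
  haveI : PreservesColimitsOfSize.{0, 0} (TensorMod.Basic.tensorBy E) :=
    preservesSmallestColimits_of_preservesColimits _
  rw [← Modules.Support.support_congr (PreservesCokernel.iso (TensorMod.Basic.tensorBy E) p)]
  refine Modules.Support.not_mem_support_iff.mpr ?_
  haveI := Modules.Support.not_mem_support_iff.mp (notMem_support_cokernel p (hp x hx))
  exact (RefHull.Tensor.tStalk (cokernel p) E x).toEquiv.subsingleton

/-- **A coherent module upstairs whose direct image maps onto `G` over the open.** -/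
theorem exists_push_to [IsNoetherian X] (h : Y ⟶ X) [IsFinite h] (U : X.Opens) [IsIso (h ∣_ U)]
    {G : X.Modules} (hG : Coh.IsCoh G) :
    ∃ (N : Y.Modules) (ψ : (Scheme.Modules.pushforward h).obj N ⟶ G),
      Coh.IsCoh N ∧ ∀ x ∈ U, Function.Surjective (stalkMapₗ ψ x) := by
  haveI : IsLocallyNoetherian Y := LocallyOfFiniteType.isLocallyNoetherian h
  let N₀ := (Scheme.Modules.pullback h).obj G
  have hN₀ : Coh.IsCoh N₀ := Cyc.FP.Stalk.isCoh_pullback h hG
  haveI := hG.1
  let I : X.IdealSheafData := Scheme.IdealSheafData.vanishingIdeal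
    ⟨(U : Set X)ᶜ, U.2.isClosed_compl⟩
  have hU : (U : Set X) = (I.support : Set X)ᶜ := by
    simp [I, Scheme.IdealSheafData.coe_support_vanishingIdeal]
  let φ := (restrictPushPull h U G).hom
  have hA : Coh.IsCoh ((Scheme.Modules.pushforward h).obj N₀) :=
    CohDelta.IdealMul.FinPush.isCoh_push h hN₀
  obtain ⟨n₀, hn₀⟩ := CohDelta.IdealMul.Main.exists_hom_extension I hA hU φ
  obtain ⟨ψ, hψ⟩ := hn₀ n₀ le_rfl
  obtain ⟨e, -⟩ := Groth.Agent.S9523.result h N₀ hN₀.1 (I ^ n₀)
  refine ⟨_, e.inv ≫ ψ, CohDelta.IdealMul.Sec.isCoh_idealMul _ hN₀, fun x hx => ?_⟩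
  haveI := hA.1
  haveI : IsIso ((Scheme.Modules.restrictFunctor U.ι).map (Dual3.idealMulι (I ^ n₀)
      ((Scheme.Modules.pushforward h).obj N₀))) :=
    CohDelta.IdealMul.DevExt.isIso_restrict _ fun y hy =>
      CohDelta.IdealMul.DevExt.stalk_ι_bijective I _ n₀ fun hyI => by
        have : y ∈ (U : Set X) := hy
        rw [hU] at this
        exact this hyI
  refine (epi_restrict_iff _).1 ?_ x hx
  rw [Functor.map_comp, hψ]
  infer_instance

end Groth.Agent.H84.CohAmple.Push
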