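import Groth.Agent.H84.CohAmple.Dim
import Groth.Agent.H84.CohAmple.Push
import Groth.Agent.Lib.GrothVanSupport
import Groth.Agent.Lib.Devissage.Localization
import Groth.Agent.Lib.Curves.LES

/-!
# Vanishing of top cohomology via maps which are surjective off a small closed set
-/

set_option autoImplicit false
set_option linter.style.haveILetI false
universe u

open CategoryTheory CategoryTheory.Limits AlgebraicGeometry TopologicalSpace

namespace Groth.Agent.H84.CohAmple.Van

open Groth.Agent.Lib Groth.Agent.Lib.Curves.LES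
open Groth.Agent.Lib.Modules.StalkModule (stalkMapₗ)

variable {X : Scheme.{u}}

theorem subsingleton_of_isZero {M : X.Modules} (h : IsZero M) (i : ℕ) :
    Subsingleton (Coh.HH X M i) := by
  refine subsingleton_of_forall_eq 0 fun x => ?_
  have h' : IsZero (Coh.toAb M) := Functor.map_isZero (SheafOfModules.toSheaf X.ringCatSheaf) h
  refine (Abelian.Ext.comp_mk₀_id x).symm.trans ?_
  rw [h'.eq_of_src (𝟙 _) 0, Abelian.Ext.mk₀_zero, Abelian.Ext.comp_zero]

/-- Coherent modules supported in codimension at least `c` have no cohomology above `d - c`. -/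
theorem subsingleton_of_codim [NoetherianSpace X] {d : ℕ} (hd : topologicalKrullDim X ≤ d)
    {M : X.Modules} (hM : Coh.IsCoh M) {c : ℕ}
    (h : ∀ x ∈ CohB1.support M, (c : WithBot ℕ∞) ≤ ringKrullDim (X.presheaf.stalk x))
    (p : ℕ) (hp : d < p + c) : Subsingleton (Coh.HH X M p) := by
  haveI : SheafOfModules.IsFiniteType (R := X.ringCatSheaf) M := hM.2
  have hS := Modules.Support.isClosed_support M
  rcases (CohB1.support M).eq_empty_or_nonempty with h0 | h0
  · exact subsingleton_of_isZero (Modules.Support.support_eq_empty_iff.1 h0) p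
  have hc : c ≤ d := by
    haveI : Nonempty (CohB1.support M) := h0.to_subtype
    have := Dim.dim_add_le hd hS h (n := 0) (by
      haveI : Nonempty (IrreducibleCloseds (CohB1.support M)) :=
        ⟨⟨closure {⟨_, h0.choose_spec⟩}, isIrreducible_singleton.closure, isClosed_closure⟩⟩
      simpa [topologicalKrullDim] using Order.krullDim_nonneg)
    omega
  refine GrothVanSupport.subsingleton_HH d hd M (d := d - c) ?_ p (by omega)
  by_contra hlt
  have hlt' := not_le.1 hlt
  have h1 : ((d - c + 1 : ℕ) : WithBot ℕ∞) ≤ topologicalKrullDim (CohB1.support M) := by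
    push_cast
    exact ENat.WithBot.add_one_le_iff.2 hlt'
  have := Dim.dim_add_le hd hS h h1
  omega

theorem subsingleton_mid {S : ShortComplex X.Modules} (hS : S.ShortExact) (i : ℕ)
    [Subsingleton (Coh.HH X S.X₁ i)] [Subsingleton (Coh.HH X S.X₃ i)] :
    Subsingleton (Coh.HH X S.X₂ i) := by
  refine subsingleton_of_forall_eq 0 fun x => ?_
  obtain ⟨y, rfl⟩ := (postcomp_exact₂ (cst X) (shortExact_abSES hS) i x).mp
    (Subsingleton.elim (α := Coh.HH X S.X₃ i) _ _)
  exact (congrArg _ (Subsingleton.elim (α := Coh.HH X S.X₁ i) y 0)).trans (map_zero _)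

theorem subsingleton_left {S : ShortComplex X.Modules} (hS : S.ShortExact) (j i : ℕ) (hji : j + 1 = i)
    [Subsingleton (Coh.HH X S.X₂ i)] [Subsingleton (Coh.HH X S.X₃ j)] :
    Subsingleton (Coh.HH X S.X₁ i) := by
  refine subsingleton_of_forall_eq 0 fun x => ?_
  obtain ⟨y, rfl⟩ := (postcomp_exact₁ (cst X) (shortExact_abSES hS) j i hji x).mp
    (Subsingleton.elim (α := Coh.HH X S.X₂ i) _ _)
  exact (congrArg _ (Subsingleton.elim (α := Coh.HH X S.X₃ j) y 0)).trans (map_zero _)

theorem subsingleton_right {S : ShortComplex X.Modules} (hS : S.ShortExact) (i j : ℕ) (hij : i + 1 = j)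
    [Subsingleton (Coh.HH X S.X₂ i)] [Subsingleton (Coh.HH X S.X₁ j)] :
    Subsingleton (Coh.HH X S.X₃ i) := by
  refine subsingleton_of_forall_eq 0 fun x => ?_
  obtain ⟨y, rfl⟩ := (postcomp_exact₃ (cst X) (shortExact_abSES hS) i j hij x).mp
    (Subsingleton.elim (α := Coh.HH X S.X₁ j) _ _)
  exact (congrArg _ (Subsingleton.elim (α := Coh.HH X S.X₂ i) y 0)).trans (map_zero _)

/-- If `H^i(A) = 0` and `φ : A|_V ⟶ M|_V` is surjective over `U`, with small complements, then
`H^i(M) = 0` in the top degrees. -/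
theorem subsingleton_top [IsNoetherian X] {d : ℕ} (hd0 : 1 ≤ d) (hd : topologicalKrullDim X ≤ d)
    {U V : X.Opens} (hUV : U ≤ V)
    (hU : ∀ x ∉ U, ((1 : ℕ) : WithBot ℕ∞) ≤ ringKrullDim (X.presheaf.stalk x))
    (hV : ∀ x ∉ V, ((2 : ℕ) : WithBot ℕ∞) ≤ ringKrullDim (X.presheaf.stalk x))
    {A M : X.Modules} (hA : Coh.IsCoh A) (hM : Coh.IsCoh M)
    (φ : (Scheme.Modules.restrictFunctor V.ι).obj A ⟶ (Scheme.Modules.restrictFunctor V.ι).obj M)
    (hφ : ∀ z : (V : Scheme.{u}), z.1 ∈ U → Function.Surjective (stalkMapₗ φ z))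
    (i : ℕ) (hi : d ≤ i) [Subsingleton (Coh.HH X A i)] : Subsingleton (Coh.HH X M i) := by
  haveI := hA.1
  haveI := hM.1
  let I : X.IdealSheafData := Scheme.IdealSheafData.vanishingIdeal
    ⟨(V : Set X)ᶜ, V.2.isClosed_compl⟩
  have hVI : (V : Set X) = (I.support : Set X)ᶜ := by
    simp [I, Scheme.IdealSheafData.coe_support_vanishingIdeal]
  have hnot : ∀ x ∈ V, x ∉ (I.support : Set X) := fun x hx hxI => by
    have : x ∈ (V : Set X) := hx
    rw [hVI] at this
    exact this hxI
  obtain ⟨n₀, hn₀⟩ := CohDelta.IdealMul.Main.exists_hom_extension I hA hVI φ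
  obtain ⟨ψ, hψ⟩ := hn₀ n₀ le_rfl
  let ι := Dual3.idealMulι (I ^ n₀) A
  have hA' : Coh.IsCoh ((Dual3.idealMul (I ^ n₀)).obj A) :=
    CohDelta.IdealMul.Sec.isCoh_idealMul _ hA
  haveI : IsIso ((Scheme.Modules.restrictFunctor V.ι).map ι) :=
    CohDelta.IdealMul.DevExt.isIso_restrict _ fun y hy =>
      CohDelta.IdealMul.DevExt.stalk_ι_bijective I A n₀ (hnot y hy)
  -- the submodule has no cohomology in degree `i`
  haveI h1 : Subsingleton (Coh.HH X ((Dual3.idealMul (I ^ n₀)).obj A) i) := by
    let S := ShortComplex.mk ι (cokernel.π ι) (cokernel.condition ι)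
    have hS : S.ShortExact := ShortComplex.ShortExact.mk'
      (ShortComplex.exact_of_g_is_cokernel _ (cokernelIsCokernel ι))
      (inferInstanceAs (Mono ι)) (inferInstanceAs (Epi (cokernel.π ι)))
    haveI : Subsingleton (Coh.HH X (cokernel ι) (i - 1)) :=
      subsingleton_of_codim hd (CohBasics.Closure.isCoh_cokernel ι hA'.1 hA) (c := 2) (fun x hx =>
        hV x fun hxV => Push.notMem_support_cokernel ι
          (CohDelta.IdealMul.DevExt.stalk_ι_bijective I A n₀ (hnot x hxV)).2 hx) (i - 1) (by omega)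
    exact subsingleton_left hS (i - 1) i (by omega)
  -- surjectivity of `ψ` over `U`
  have hψU : ∀ x ∈ U, Function.Surjective (stalkMapₗ ψ x) := fun x hx => by
    refine (Push.surjective_iff ψ (hUV hx)).1 ?_
    rw [hψ]
    intro v
    obtain ⟨w, rfl⟩ := hφ (⟨x, hUV hx⟩ : (V : Scheme.{u})) hx v
    obtain ⟨t, rfl⟩ := (Modules.StalkModule.epi_iff_stalkMapₗ_surjective
      ((Scheme.Modules.restrictFunctor V.ι).map ι)).mp inferInstance _ w
    exact ⟨t, LinearMap.congr_fun (Modules.StalkModule.stalkMapₗ_comp _ _ _) t⟩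
  let S2 := ShortComplex.mk (kernel.ι ψ) (Abelian.factorThruImage ψ)
    (Devissage.Localization.kernel_ι_fac ψ)
  have hS2 : S2.ShortExact := Devissage.Localization.shortExact_image ψ
  haveI : Subsingleton (Coh.HH X (kernel ψ) (i + 1)) :=
    subsingleton_of_codim hd (CohBasics.Closure.isCoh_kernel ψ hA' hM.1) (c := 0)
      (fun x _ => by
        push_cast
        exact ringKrullDim_nonneg_of_nontrivial) (i + 1) (by omega)
  haveI : Subsingleton (Coh.HH X (Abelian.image ψ) i) := subsingleton_right hS2 i (i + 1) rfl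
  let ιm := Abelian.image.ι ψ
  let eC : cokernel ιm ≅ cokernel ψ :=
    ((cokernelIsoOfEq (Abelian.image.fac ψ)).symm ≪≫ cokernelEpiComp _ _).symm
  let S3 := ShortComplex.mk ιm (cokernel.π ιm) (cokernel.condition ιm)
  have hS3 : S3.ShortExact := ShortComplex.ShortExact.mk'
    (ShortComplex.exact_of_g_is_cokernel _ (cokernelIsCokernel ιm))
    (inferInstanceAs (Mono ιm)) (inferInstanceAs (Epi (cokernel.π ιm)))
  haveI : Subsingleton (Coh.HH X (cokernel ιm) i) :=
    subsingleton_of_codim hd
      (CohBasics.Closure.isCoh_of_iso eC.symm (CohBasics.Closure.isCoh_cokernel ψ hA'.1 hM)) (c := 1)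
      (fun x hx => hU x fun hxU => by
        rw [Modules.Support.support_congr eC] at hx
        exact Push.notMem_support_cokernel ψ (hψU x hxU) hx) i (by omega)
  exact subsingleton_mid hS3 i

end Groth.Agent.H84.CohAmple.Van
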